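import Cfsg.Agent.PreUniqCo.TrWord

/-!
# Traces of words in `Co0` from the image of one vector (helper215)

The image of the vector `beta` with coordinates `8 · 64 ^ i` under `g` contains the whole matrix of `g` as balanced digits in
base `64`, so one evaluation of a word gives its trace (`trW_fast`), instead of 24.
-/

set_option autoImplicit false

namespace Cfsg.Agent.H215.TrFast

open Cfsg Cfsg.Agent.SporadicA Cfsg.Agent.SporadicStructure Cfsg.Agent.SporadicStructure.Co0Matrix
open Cfsg.Agent.CoOneType.CoEval Cfsg.Agent.LThreeCo1.Ev Cfsg.Agent.PreUniqCo.TrWord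
open Cfsg.Agent.Co2Type.Mono (tr8)
open Cfsg.Agent.SporadicA.GolayBase (idx pt idx_lt pt_idx idx_pt)

/-- `∑ 16 · 64 ^ i`, `i < 24` -/
def off : ℕ := 5663681320261745559755103053371012445963280

theorem off_eq : (off : ℤ) = ∑ i ∈ Finset.range 24, 16 * 64 ^ i := by
  norm_num [Finset.sum_range_succ, off]

/-- the balanced digit of index `i` -/
def dg (i : ℕ) (x : ℤ) : ℤ := Int.subNatNat ((x + off).toNat / 64 ^ i % 64) 16

theorem digit_aux (n : ℕ) : ∀ d : ℕ → ℕ, (∀ i, i < n → d i < 64) → ∀ j, j < n →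
    (∑ i ∈ Finset.range n, d i * 64 ^ i) / 64 ^ j % 64 = d j := by
  induction n with
  | zero => intro d _ j hj; omega
  | succ n ih =>
    intro d hd j hj
    rw [Finset.sum_range_succ']
    have e : ∑ i ∈ Finset.range n, d (i + 1) * 64 ^ (i + 1) = 64 * ∑ i ∈ Finset.range n, d (i + 1) * 64 ^ i := by
      rw [Finset.mul_sum]
      exact Finset.sum_congr rfl fun i _ => by rw [pow_succ]; ring
    have h0 := hd 0 (Nat.succ_pos n)
    rw [e, pow_zero, mul_one]
    cases j with
    | zero =>
      rw [pow_zero, Nat.div_one]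
      omega
    | succ j =>
      have h1 := ih (fun i => d (i + 1)) (fun i hi => hd (i + 1) (by omega)) j (by omega)
      rw [pow_succ', ← Nat.div_div_eq_div_mul]
      have h2 : (64 * ∑ i ∈ Finset.range n, d (i + 1) * 64 ^ i + d 0) / 64 = ∑ i ∈ Finset.range n, d (i + 1) * 64 ^ i := by
        omega
      rw [h2]
      exact h1

theorem dg_eq {d : ℕ → ℤ} (hd : ∀ i, i < 24 → |d i| ≤ 16) {j : ℕ} (hj : j < 24) :
    dg j (∑ i ∈ Finset.range 24, d i * 64 ^ i) = d j := by
  have h1 : (∑ i ∈ Finset.range 24, d i * 64 ^ i) + (off : ℤ) =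
      ((∑ i ∈ Finset.range 24, (d i + 16).toNat * 64 ^ i : ℕ) : ℤ) := by
    rw [off_eq, ← Finset.sum_add_distrib]
    push_cast
    refine Finset.sum_congr rfl fun i hi => ?_
    have h2 := abs_le.1 (hd i (Finset.mem_range.1 hi))
    rw [Int.toNat_of_nonneg (by linarith)]
    ring
  unfold dg
  rw [h1, Int.toNat_natCast, digit_aux 24 (fun i => (d i + 16).toNat) (fun i hi => ?_) j hj]
  · have h2 := abs_le.1 (hd j hj)
    rw [Int.subNatNat_eq_coe]
    omega
  · have h2 := abs_le.1 (hd i hi)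
    omega

/-- the sum of the diagonal digits -/
def sumD : ℕ → List ℤ → ℤ
  | _, [] => 0
  | i, x :: l => dg i x + sumD (i + 1) l

theorem sumD_eq (l : List ℤ) : ∀ i, sumD i l = ∑ k ∈ Finset.range l.length, dg (i + k) (l.getD k 0) := by
  induction l with
  | nil => intro i; rfl
  | cons x l ih =>
    intro i
    rw [sumD, ih, List.length_cons, Finset.sum_range_succ', add_comm]
    congr 1
    refine Finset.sum_congr rfl fun k _ => ?_
    rw [List.getD_cons_succ]
    congr 1
    omega

/-- eight times the trace, from one evaluation -/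
def trF (M : ℕ → List (List ℤ)) (w : List ℕ) : ℤ := sumD 0 (foldZ M w betaL)

theorem length_foldZ {e : ℕ → Co0} {M : ℕ → List (List ℤ)} (hM : ∀ i, Rep (e i) (M i)) (w : List ℕ) :
    (foldZ M w betaL).length = 24 := by
  cases w with
  | nil => rfl
  | cons i w =>
    show (apZ (M i) (foldZ M w betaL)).length = 24
    rw [apZ_eq, length_ap (hM i).len]

/-- the coordinates of the image of `beta` -/
theorem coord_beta (g : Co0) (p : GolayPt) : ((g.1 beta : leechLattice) : GolayPt → ℤ) p =
    ∑ n ∈ Finset.range 24, ((g.1 (Co0Basic.e8 (pt n)) : leechLattice) : GolayPt → ℤ) p * 64 ^ n := by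
  have h1 := congrArg (fun v : leechLattice => (v : GolayPt → ℤ) p) (Co0Basic.map_smul8 g beta)
  have h2 : (8 : ℤ) * ((g.1 beta : leechLattice) : GolayPt → ℤ) p =
      8 * ∑ n ∈ Finset.range 24, ((g.1 (Co0Basic.e8 (pt n)) : leechLattice) : GolayPt → ℤ) p * 64 ^ n := by
    refine Eq.trans ?_ (h1.trans ?_)
    · simp
    · rw [Finset.mul_sum]
      show ((∑ i, ((beta : leechLattice) : GolayPt → ℤ) i • g.1 (Co0Basic.e8 i) : leechLattice) : GolayPt → ℤ) p = _
      rw [AddSubgroup.val_finsetSum, Finset.sum_apply, GolayBase.sum_pt]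
      refine Finset.sum_congr rfl fun n hn => ?_
      rw [beta_coe, vec_betaL, idx_pt (Finset.mem_range.1 hn)]
      show (8 * 64 ^ n : ℤ) * _ = _
      ring
  linarith

theorem trF_eq {e : ℕ → Co0} {M : ℕ → List (List ℤ)} (hM : ∀ i, Rep (e i) (M i)) (w : List ℕ) :
    trF M w = tr8 ((w.map e).prod) := by
  set g : Co0 := (w.map e).prod with hg
  have h1 := (fold_spec hM w (l := betaL) (v := beta) (by decide) rfl).2
  rw [← foldZ_eq, ← hg] at h1
  have h2 : ∀ n, n < 24 → (foldZ M w betaL).getD n 0 =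
      ∑ m ∈ Finset.range 24, ((g.1 (Co0Basic.e8 (pt m)) : leechLattice) : GolayPt → ℤ) (pt n) * 64 ^ m := by
    intro n hn
    rw [← coord_beta, h1, vec_apply, idx_pt hn]
  unfold trF
  rw [sumD_eq, length_foldZ hM]
  unfold tr8
  rw [GolayBase.sum_pt]
  refine Finset.sum_congr rfl fun n hn => ?_
  have hn' := Finset.mem_range.1 hn
  rw [h2 n hn', zero_add, dg_eq (d := fun m => ((g.1 (Co0Basic.e8 (pt m)) : leechLattice) : GolayPt → ℤ) (pt n)) ?_ hn']
  · rfl
  · intro m _
    refine (abs_le_of_norm ?_ _).trans (by norm_num)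
    rw [Co0Basic.map_sqNorm g (Co0Basic.e8 _)]
    exact sqNorm_e8 _

/-- **the trace of a word from one evaluation** -/
theorem trW_fast {e : ℕ → Co0} {M : ℕ → List (List ℤ)} (hM : ∀ i, Rep (e i) (M i)) {w : List ℕ} {a : ℤ}
    (h : trF M w = a) : trW M w = a := by
  rw [← h, trF_eq hM, tr8_word hM]

end Cfsg.Agent.H215.TrFast
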